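import Cfsg.Agent.Lib.KnownSimple.SemisimpleClasses.Classes

/-!
# Bounds for the number of conjugacy classes of `GL n`
-/

set_option autoImplicit false

namespace CfsgLib.GLClassBound

open Polynomial Module CfsgLib.SSClasses

/-- Number of monic polynomials of degree `d` with non-zero constant term, for `u + 1` elements. -/
def monicCount (u : ℕ) : ℕ → ℕ
  | 0 => 1
  | d + 1 => u * (u + 1) ^ d

/-- Number of tuples of such polynomials of weighted degree `r`. -/
def tupCount (u : ℕ) : ℕ → ℕ → ℕ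
  | 0, r => if r = 0 then 1 else 0
  | s + 1, r => ∑ d ∈ Finset.range (r / (s + 1) + 1), monicCount u d * tupCount u s (r - (s + 1) * d)

/-- The variant in which the last polynomial is arbitrary monic. -/
def freeCount (u s r : ℕ) : ℕ :=
  ∑ d ∈ Finset.range (r / (s + 1) + 1), (u + 1) ^ d * tupCount u s (r - (s + 1) * d)

theorem freeCount_eq (u : ℕ) {s r : ℕ} (h : s + 1 ≤ r) :
    freeCount u s r = tupCount u s r + (u + 1) * freeCount u s (r - (s + 1)) := by
  rw [freeCount, Nat.div_eq_sub_div (Nat.succ_pos s) h, Finset.sum_range_succ', freeCount, Finset.mul_sum,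
    add_comm (tupCount u s r)]
  refine congrArg₂ (· + ·) (Finset.sum_congr rfl fun d _ => ?_) (by simp)
  rw [pow_succ, Nat.sub_sub, show (s + 1) * (d + 1) = s + 1 + (s + 1) * d by ring]
  ring

theorem tupCount_succ (u : ℕ) {s r : ℕ} (h : s + 1 ≤ r) :
    tupCount u (s + 1) r = tupCount u s r + u * freeCount u s (r - (s + 1)) := by
  rw [tupCount, Nat.div_eq_sub_div (Nat.succ_pos s) h, Finset.sum_range_succ', freeCount, Finset.mul_sum,
    add_comm (tupCount u s r)]
  refine congrArg₂ (· + ·) (Finset.sum_congr rfl fun d _ => ?_) (by simp [monicCount])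
  rw [monicCount, Nat.sub_sub, show (s + 1) * (d + 1) = s + 1 + (s + 1) * d by ring]
  ring

theorem tupCount_succ_small (u : ℕ) {s r : ℕ} (h : r < s + 1) :
    tupCount u (s + 1) r = tupCount u s r := by
  rw [tupCount, Nat.div_eq_of_lt h]
  simp [monicCount]

theorem freeCount_small (u : ℕ) {s r : ℕ} (h : r < s + 1) : freeCount u s r = tupCount u s r := by
  rw [freeCount, Nat.div_eq_of_lt h]
  simp

theorem tupCount_zero (u : ℕ) : ∀ s, tupCount u s 0 = 1
  | 0 => rfl
  | s + 1 => by rw [tupCount_succ_small u (Nat.succ_pos s), tupCount_zero u s]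

theorem count_bound (u : ℕ) : ∀ r s, tupCount u s r ≤ (u + 1) ^ r ∧ freeCount u s r ≤ (u + 1) ^ r := by
  intro r
  induction r using Nat.strong_induction_on with
  | _ r ih =>
  rcases Nat.eq_zero_or_pos r with h0 | hr
  · subst h0
    intro s
    rw [freeCount_small u (Nat.succ_pos s), tupCount_zero]
    simp
  have key : ∀ s, (s ≤ r → tupCount u s r + (u + 1) ^ (r - s) ≤ (u + 1) ^ r) ∧
      tupCount u s r ≤ (u + 1) ^ r := by
    intro s
    induction s with
    | zero =>
      have : tupCount u 0 r = 0 := if_neg hr.ne'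
      simp [this]
    | succ s hs =>
      rcases Nat.lt_or_ge r (s + 1) with h | h
      · rw [tupCount_succ_small u h]
        exact ⟨fun h' => by omega, hs.2⟩
      · have h1 := hs.1 (by omega)
        have h2 := (ih (r - (s + 1)) (by omega) s).2
        have h3 : (u + 1) ^ (r - s) = (u + 1) * (u + 1) ^ (r - (s + 1)) := by
          rw [← pow_succ']; congr 1; omega
        rw [tupCount_succ u h]
        have h4 := Nat.mul_le_mul_left u h2
        constructor
        · intro _
          rw [h3, add_mul, one_mul] at h1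
          omega
        · rw [h3, add_mul, one_mul] at h1
          omega
  intro s
  refine ⟨(key s).2, ?_⟩
  rcases Nat.lt_or_ge r (s + 1) with h | h
  · rw [freeCount_small u h]; exact (key s).2
  · have h1 := (key s).1 (by omega)
    have h2 := Nat.mul_le_mul_left (u + 1) (ih (r - (s + 1)) (by omega) s).2
    rw [← pow_succ', show r - (s + 1) + 1 = r - s by omega] at h2
    rw [freeCount_eq u h]
    omega

universe v

variable (F : Type v) [Field F] [Fintype F]

/-- Tuples of monic polynomials with non-zero constant terms of weighted degree `r`. -/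
def Tup (s r : ℕ) : Type v :=
  {h : Fin s → F[X] // (∀ j, (h j).Monic ∧ (h j).coeff 0 ≠ 0) ∧ ∑ j : Fin s, ((j : ℕ) + 1) * (h j).natDegree = r}

theorem card_monic (d : ℕ) :
    Finite (PolySet F d (· ≠ 0)) ∧
      Nat.card (PolySet F d (· ≠ 0)) = monicCount (Fintype.card F - 1) d := by
  classical
  have h2 := Fintype.one_lt_card (α := F)
  have hcard : Nat.card (PolySet F d (· ≠ 0)) = monicCount (Fintype.card F - 1) d := by
    rcases d with _ | d
    · rw [monicCount, Nat.card_eq_one_iff_unique]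
      exact ⟨⟨fun P Q => Subtype.ext ((P.2.1.1.natDegree_eq_zero.1 P.2.1.2).trans
        (Q.2.1.1.natDegree_eq_zero.1 Q.2.1.2).symm)⟩, ⟨⟨1, ⟨monic_one, natDegree_one⟩, by simp⟩⟩⟩
    · rw [card_polySet, monicCount, Nat.card_eq_fintype_card, Fintype.card_subtype_compl,
        Fintype.card_subtype_eq, Nat.sub_add_cancel h2.le]
  refine ⟨Nat.finite_of_card_ne_zero ?_, hcard⟩
  rw [hcard]
  rcases d with _ | d
  · exact one_ne_zero
  · exact (Nat.mul_pos (by omega) (pow_pos (by omega) d)).ne'

theorem card_tup : ∀ s r, Finite (Tup F s r) ∧ Nat.card (Tup F s r) ≤ tupCount (Fintype.card F - 1) s r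
  | 0, r => by
    haveI : Subsingleton (Tup F 0 r) := ⟨fun a b => Subtype.ext (_root_.funext fun j : Fin 0 => j.elim0)⟩
    refine ⟨inferInstance, ?_⟩
    show _ ≤ if r = 0 then 1 else 0
    split_ifs with h
    · exact Finite.card_le_one_iff_subsingleton.2 inferInstance
    · haveI : IsEmpty (Tup F 0 r) := ⟨fun a => h (by simpa using a.2.2.symm)⟩
      simp
  | s + 1, r => by
    classical
    let T := Σ d : Fin (r / (s + 1) + 1), PolySet F (d : ℕ) (· ≠ 0) × Tup F s (r - (s + 1) * (d : ℕ))
    haveI : ∀ d : Fin (r / (s + 1) + 1),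
        Finite (PolySet F (d : ℕ) (· ≠ 0) × Tup F s (r - (s + 1) * (d : ℕ))) := fun d => by
      haveI := (card_monic F d).1
      haveI := (card_tup s (r - (s + 1) * (d : ℕ))).1
      infer_instance
    have hsum : ∀ h : Tup F (s + 1) r,
        ∑ j : Fin s, ((j : ℕ) + 1) * (h.1 j.castSucc).natDegree + (s + 1) * (h.1 (Fin.last s)).natDegree = r := by
      intro h
      have := h.2.2
      rw [Fin.sum_univ_castSucc] at this
      simpa using this
    let f : Tup F (s + 1) r → T := fun h =>
      ⟨⟨(h.1 (Fin.last s)).natDegree, Nat.lt_succ_of_le ((Nat.le_div_iff_mul_le (Nat.succ_pos s)).2 (by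
          have := hsum h; rw [mul_comm, Nat.succ_eq_add_one]; omega))⟩,
        ⟨h.1 (Fin.last s), ⟨(h.2.1 _).1, rfl⟩, (h.2.1 _).2⟩,
        ⟨fun j => h.1 j.castSucc, fun j => h.2.1 _, by have := hsum h; simp only; omega⟩⟩
    have hf : Function.Injective f := fun a b e => by
      have e1 : ((f a).2.1.1, (f a).2.2.1) = ((f b).2.1.1, (f b).2.2.1) :=
        congrArg (fun x : T => (x.2.1.1, x.2.2.1)) e
      obtain ⟨e2, e3⟩ := Prod.mk.inj e1
      exact Subtype.ext (_root_.funext fun j => Fin.lastCases e2 (fun i => congrFun e3 i) j)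
    haveI := Finite.of_injective f hf
    refine ⟨inferInstance, (Nat.card_le_card_of_injective f hf).trans ?_⟩
    rw [Nat.card_sigma, tupCount, ← Fin.sum_univ_eq_sum_range
      (fun d => monicCount (Fintype.card F - 1) d * tupCount (Fintype.card F - 1) s (r - (s + 1) * d))]
    refine Finset.sum_le_sum fun d _ => ?_
    rw [Nat.card_prod, (card_monic F (d : ℕ)).2]
    exact Nat.mul_le_mul_left _ (card_tup s _).2

variable {F} {n : ℕ}

/-- The blocks of a primary decomposition. -/
abbrev PMdl {ι : Type*} (pe : ι → F[X] × ℕ) : Type _ :=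
  ∀ i, F[X] ⧸ Ideal.span {(pe i).1 ^ (pe i).2}

omit [Fintype F] in
theorem pmdl_congr {ι κ : Type*} [Fintype ι] [Fintype κ] (a : ι → F[X] × ℕ) (b : κ → F[X] × ℕ)
    (h : Finset.univ.val.map a = Finset.univ.val.map b) : Nonempty (PMdl a ≃ₗ[F[X]] PMdl b) := by
  classical
  have hfib : ∀ c, Fintype.card {i // a i = c} = Fintype.card {j // b j = c} := fun c => by
    have := congrArg (Multiset.count c) h
    rw [Multiset.count_map, Multiset.count_map] at this
    rw [Fintype.card_subtype, Fintype.card_subtype, Finset.card_def, Finset.card_def, Finset.filter_val,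
      Finset.filter_val]
    simpa only [eq_comm] using this
  let σ : ι ≃ κ := Equiv.ofFiberEquiv fun c => Fintype.equivOfCardEq (hfib c)
  have hσ : ∀ i, b (σ i) = a i := Equiv.ofFiberEquiv_map _
  let e₁ : PMdl a ≃ₗ[F[X]] PMdl (fun i => b (σ i)) :=
    LinearEquiv.piCongrRight fun i => Submodule.quotEquivOfEq _ _ (by simp only [hσ])
  exact ⟨e₁.trans
    (LinearEquiv.piCongrLeft F[X] (fun j => F[X] ⧸ Ideal.span {(b j).1 ^ (b j).2}) σ)⟩

open scoped Classical in
omit [Fintype F] in
theorem drop_trivial {ι : Type*} (p : ι → F[X]) (e : ι → ℕ) :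
    Nonempty ((∀ i, F[X] ⧸ Ideal.span {p i ^ e i}) ≃ₗ[F[X]]
      PMdl (fun i : {i // 0 < e i} => (normalize (p i.1), e i.1))) := by
  classical
  have hass : ∀ i, Ideal.span {p i ^ e i} = Ideal.span {normalize (p i) ^ e i} := fun i => by
    rw [Ideal.span_singleton_eq_span_singleton]
    exact (associated_normalize (p i)).pow_pow
  let φ : (∀ i, F[X] ⧸ Ideal.span {p i ^ e i}) →ₗ[F[X]]
      PMdl (fun i : {i // 0 < e i} => (normalize (p i.1), e i.1)) :=
    LinearMap.pi fun i => (Submodule.quotEquivOfEq _ _ (hass i.1)).toLinearMap.comp (LinearMap.proj i.1)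
  refine ⟨LinearEquiv.ofBijective φ ⟨fun v w h => ?_, fun v => ?_⟩⟩
  · refine _root_.funext fun i => ?_
    by_cases hi : 0 < e i
    · exact (Submodule.quotEquivOfEq _ _ (hass i)).injective (congrFun h ⟨i, hi⟩)
    · haveI : Subsingleton (F[X] ⧸ Ideal.span {p i ^ e i}) := by
        rw [Ideal.Quotient.subsingleton_iff, Nat.eq_zero_of_not_pos hi, pow_zero, Ideal.span_singleton_one]
      exact Subsingleton.elim _ _
  · refine ⟨fun i => if hi : 0 < e i then (Submodule.quotEquivOfEq _ _ (hass i)).symm (v ⟨i, hi⟩) else 0,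
      _root_.funext fun i => ?_⟩
    show Submodule.quotEquivOfEq _ _ (hass i.1)
      (if hi : 0 < e i.1 then (Submodule.quotEquivOfEq _ _ (hass i.1)).symm (v ⟨i.1, hi⟩) else 0) = v i
    rw [dif_pos i.2]
    exact LinearEquiv.apply_symm_apply _ _

omit [Fintype F] in
theorem charpoly_kills (A : Matrix (Fin n) (Fin n) F) (x : MatMod A) : A.charpoly • x = 0 := by
  obtain ⟨v, rfl⟩ := (AEval'.of (Matrix.toLin' A)).surjective x
  have h := congrArg (Matrix.toLinAlgEquiv' (R := F) (n := Fin n)) (Matrix.aeval_self_charpoly A)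
  rw [← aeval_algHom_apply, map_zero] at h
  refine (AEval.of_aeval_smul (Matrix.toLin' A) A.charpoly v).symm.trans ?_
  rw [show aeval (Matrix.toLin' A) A.charpoly = 0 from h, zero_smul, map_zero]

omit [Fintype F] in
theorem coeff_zero_of_iso (g : GL (Fin n) F) {ι : Type*} (pe : ι → F[X] × ℕ)
    (Φ : MatMod (g : Matrix (Fin n) (Fin n) F) ≃ₗ[F[X]] PMdl pe) (i : ι) (hi : 0 < (pe i).2) :
    (pe i).1.coeff 0 ≠ 0 := by
  classical
  intro h0
  obtain ⟨x, hx⟩ := Φ.surjective (Pi.single i (Ideal.Quotient.mk _ 1))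
  have h := congrArg (fun v => Φ v i) (charpoly_kills _ x)
  simp only [map_smul, hx, Pi.smul_apply, Pi.single_eq_same, map_zero, Pi.zero_apply] at h
  have h1 : (pe i).1 ^ (pe i).2 ∣ (g : Matrix (Fin n) (Fin n) F).charpoly := by
    refine Ideal.mem_span_singleton.1 (Ideal.Quotient.eq_zero_iff_mem.1 ?_)
    rw [← mul_one (g : Matrix (Fin n) (Fin n) F).charpoly, map_mul]
    exact h
  obtain ⟨c, hc⟩ := (dvd_pow_self _ hi.ne').trans h1
  refine coeff_zero_ne_zero g ?_
  rw [hc, mul_coeff_zero, h0, zero_mul]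

omit [Fintype F] in
theorem degree_sum_of_iso (A : Matrix (Fin n) (Fin n) F) {ι : Type*} [Fintype ι] (pe : ι → F[X] × ℕ)
    (hm : ∀ i, (pe i).1.Monic) (Φ : MatMod A ≃ₗ[F[X]] PMdl pe) :
    ∑ i, (pe i).2 * (pe i).1.natDegree = n := by
  haveI : ∀ i, Module.Finite F (F[X] ⧸ Ideal.span {(pe i).1 ^ (pe i).2}) := fun i =>
    (AdjoinRoot.powerBasis (f := (pe i).1 ^ (pe i).2) (pow_ne_zero _ (hm i).ne_zero)).finite
  haveI : ∀ i, Module.Free F (F[X] ⧸ Ideal.span {(pe i).1 ^ (pe i).2}) := fun i =>
    Module.Free.of_divisionRing F _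
  have h := (Φ.restrictScalars F).finrank_eq
  rw [← (AEval'.of (Matrix.toLin' A)).finrank_eq, Module.finrank_pi, Fintype.card_fin,
    Module.finrank_pi_fintype] at h
  rw [h]
  exact Finset.sum_congr rfl fun i _ => by rw [finrank_quotient_span_eq_natDegree, natDegree_pow]

omit [Fintype F] in
theorem exists_primary (g : GL (Fin n) F) :
    ∃ (ι : Type v) (_ : Fintype ι) (pe : ι → F[X] × ℕ),
      (∀ i, (pe i).1.Monic ∧ Irreducible (pe i).1 ∧ (pe i).1.coeff 0 ≠ 0 ∧ 0 < (pe i).2) ∧
      ∑ i, (pe i).2 * (pe i).1.natDegree = n ∧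
      Nonempty (MatMod (g : Matrix (Fin n) (Fin n) F) ≃ₗ[F[X]] PMdl pe) := by
  classical
  haveI : Module.Finite F (MatMod (g : Matrix (Fin n) (Fin n) F)) :=
    Module.Finite.equiv (AEval'.of (Matrix.toLin' (g : Matrix (Fin n) (Fin n) F)))
  haveI : Module.Finite F[X] (MatMod (g : Matrix (Fin n) (Fin n) F)) :=
    Module.Finite.of_restrictScalars_finite F F[X] _
  have hT : Module.IsTorsion F[X] (MatMod (g : Matrix (Fin n) (Fin n) F)) := fun {x} =>
    ⟨⟨_, mem_nonZeroDivisors_of_ne_zero (Matrix.charpoly_monic (g : Matrix (Fin n) (Fin n) F)).ne_zero⟩,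
      charpoly_kills _ x⟩
  obtain ⟨ι, hι, p, hp, e, ⟨Φ₀⟩⟩ := Module.equiv_directSum_of_isTorsion hT
  obtain ⟨D⟩ := drop_trivial p e
  let Φ := (Φ₀.trans (DirectSum.linearEquivFunOnFintype F[X] ι fun i => F[X] ⧸ F[X] ∙ p i ^ e i)).trans D
  have hm : ∀ i : {i // 0 < e i}, (normalize (p i.1)).Monic := fun i => monic_normalize (hp i.1).ne_zero
  exact ⟨_, inferInstance, _, fun i => ⟨hm i, (associated_normalize (p i.1)).irreducible (hp i.1),
    coeff_zero_of_iso g _ Φ i i.2, i.2⟩, degree_sum_of_iso _ _ hm Φ, ⟨Φ⟩⟩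

omit [Fintype F] in
theorem eq_of_prod_eq {s t : Multiset F[X]} (hs : ∀ a ∈ s, Polynomial.Monic a ∧ Irreducible a)
    (ht : ∀ a ∈ t, Polynomial.Monic a ∧ Irreducible a) (h : s.prod = t.prod) : s = t := by
  have hr := UniqueFactorizationMonoid.factors_unique (fun a ha => (hs a ha).2) (fun a ha => (ht a ha).2)
    (Associated.of_eq h)
  exact Multiset.rel_eq.1 (hr.mono fun a ha b hb hab =>
    eq_of_monic_of_associated (hs a ha).1 (ht b hb).1 hab)

theorem sum_singleton_map {α β : Type*} (s : Finset α) (f : α → β) :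
    ∑ i ∈ s, ({f i} : Multiset β) = s.val.map f := by
  induction s using Finset.cons_induction with
  | empty => simp
  | cons a s ha ih => rw [Finset.sum_cons, ih, Finset.cons_val, Multiset.map_cons, Multiset.singleton_add]

theorem card_classes_le (n : ℕ) :
    Nat.card (ConjClasses (GL (Fin n) F)) ≤ Fintype.card F ^ n := by
  classical
  choose ι hι pe hpe hsum hiso using exists_primary (F := F) (n := n)
  have hle : ∀ g i, (pe g i).2 ≤ n := fun g i => by
    have h1 : (pe g i).2 * (pe g i).1.natDegree ≤ n :=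
      (Finset.single_le_sum (f := fun i => (pe g i).2 * (pe g i).1.natDegree) (fun _ _ => Nat.zero_le _)
        (Finset.mem_univ i)).trans (hsum g).le
    exact (Nat.le_mul_of_pos_right _ (hpe g i).2.1.natDegree_pos).trans h1
  let idx : ∀ g, ι g → Fin n := fun g i =>
    ⟨(pe g i).2 - 1, by have := hle g i; have := (hpe g i).2.2.2; omega⟩
  let fib : ∀ g, Fin n → Finset (ι g) := fun g j => Finset.univ.filter fun i => idx g i = j
  have hfib : ∀ g j, ∀ i ∈ fib g j, (pe g i).2 = (j : ℕ) + 1 := fun g j i hi => by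
    have h := congrArg Fin.val (Finset.mem_filter.1 hi).2
    have := (hpe g i).2.2.2
    simp only [idx] at h
    omega
  let part : ∀ g : GL (Fin n) F, Fin n → Multiset F[X] := fun g j => (fib g j).val.map fun i => (pe g i).1
  let tup : GL (Fin n) F → Tup F n n := fun g =>
    ⟨fun j => ∏ i ∈ fib g j, (pe g i).1,
      fun j => ⟨monic_prod_of_monic _ _ fun i _ => (hpe g i).1, by
        rw [coeff_zero_eq_eval_zero, eval_prod, Finset.prod_ne_zero_iff]
        intro i _
        rw [← coeff_zero_eq_eval_zero]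
        exact (hpe g i).2.2.1⟩, by
      refine Eq.trans ?_ (hsum g)
      rw [← Finset.sum_fiberwise Finset.univ (idx g) fun i => (pe g i).2 * (pe g i).1.natDegree]
      refine Finset.sum_congr rfl fun j _ => ?_
      rw [natDegree_prod_of_monic _ _ fun i _ => (hpe g i).1, Finset.mul_sum]
      exact Finset.sum_congr rfl fun i hi => by rw [hfib g j i hi]⟩
  have key : ∀ g, Finset.univ.val.map (pe g) =
      ∑ j : Fin n, (part g j).map fun P => (P, (j : ℕ) + 1) := fun g => by
    rw [← sum_singleton_map, ← Finset.sum_fiberwise Finset.univ (idx g) fun i => ({pe g i} : Multiset _)]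
    refine Finset.sum_congr rfl fun j _ => ?_
    rw [sum_singleton_map, Multiset.map_map]
    exact Multiset.map_congr rfl fun i hi => Prod.ext rfl (hfib g j i hi)
  have hinj : ∀ g g', tup g = tup g' → IsConj g g' := fun g g' h => by
    have hp : ∀ j, part g j = part g' j := fun j => by
      refine eq_of_prod_eq ?_ ?_ (congrFun (congrArg Subtype.val h) j)
      all_goals
        intro a ha
        obtain ⟨i, -, rfl⟩ := Multiset.mem_map.1 ha
        exact ⟨(hpe _ i).1, (hpe _ i).2.1⟩
    obtain ⟨C⟩ := pmdl_congr (pe g) (pe g') (by simp only [key, hp])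
    obtain ⟨Φ⟩ := hiso g
    obtain ⟨Ψ⟩ := hiso g'
    obtain ⟨P, hP⟩ := exists_conj_of_equiv ((Φ.trans C).trans Ψ.symm)
    exact isConj_iff.2 ⟨P, mul_inv_eq_iff_eq_mul.2 (Units.ext hP)⟩
  have hcls : Function.Injective fun c : ConjClasses (GL (Fin n) F) => tup c.exists_rep.choose := by
    intro c d h
    rw [← c.exists_rep.choose_spec, ← d.exists_rep.choose_spec]
    exact ConjClasses.mk_eq_mk_iff_isConj.2 (hinj _ _ h)
  haveI := (card_tup F n n).1
  refine (Nat.card_le_card_of_injective _ hcls).trans ((card_tup F n n).2.trans ?_)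
  have h := (count_bound (Fintype.card F - 1) n n).1
  rwa [Nat.sub_add_cancel Fintype.card_pos] at h

theorem le_card_classes (n : ℕ) (hn : 1 ≤ n) :
    Fintype.card F ^ n - Fintype.card F ^ (n - 1) ≤ Nat.card (ConjClasses (GL (Fin n) F)) := by
  classical
  obtain ⟨k, rfl⟩ := Nat.exists_eq_add_of_le' hn
  obtain ⟨p, hc⟩ := CharP.exists F
  haveI : Fact p.Prime := ⟨CharP.char_is_prime F p⟩
  rw [Nat.add_sub_cancel, pow_succ', ← Nat.sub_one_mul, ← gl_card_classes (F := F) p]
  exact Finite.card_subtype_le _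

end CfsgLib.GLClassBound
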